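import Mathlib

/-!
`A₈` is not a section of a group whose Sylow 2-subgroups have a two-generated abelian normal subgroup of
index at most four.
-/

set_option autoImplicit false
set_option linter.unusedSectionVars false

namespace H35.D4Sec

open Equiv

/-- `(0123)`. -/
def c1 : Perm (Fin 8) := ⟨![1, 2, 3, 0, 4, 5, 6, 7], ![3, 0, 1, 2, 4, 5, 6, 7], by decide, by decide⟩
/-- `(4567)`. -/
def c2 : Perm (Fin 8) := ⟨![0, 1, 2, 3, 5, 6, 7, 4], ![0, 1, 2, 3, 7, 4, 5, 6], by decide, by decide⟩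
/-- `(04)(15)(26)(37)`. -/
def cs : Perm (Fin 8) := ⟨![4, 5, 6, 7, 0, 1, 2, 3], ![4, 5, 6, 7, 0, 1, 2, 3], by decide, by decide⟩
/-- `(45)`. -/
def c3 : Perm (Fin 8) := Equiv.swap 4 5
/-- `(67)`. -/
def c4 : Perm (Fin 8) := Equiv.swap 6 7

theorem cycleType_x44 : (c1 * c2).cycleType = {4, 4} := by decide +kernel

theorem cycleType_x42 : (c1 * c3).cycleType = {4, 2} := by decide +kernel

theorem signs : Perm.sign c1 = -1 ∧ Perm.sign c2 = -1 ∧ Perm.sign cs = 1 ∧ Perm.sign c3 = -1 ∧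
    Perm.sign c4 = -1 := by decide +kernel

/-- The image of `k` under a permutation commuting with `(0123)(4567)` sending `0 ↦ v`, `4 ↦ w`. -/
def mk44 (v w : Fin 8) (k : Fin 8) : Fin 8 :=
  if k.val < 4 then (⇑(c1 * c2))^[k.val] v else (⇑(c1 * c2))^[k.val - 4] w

theorem enum44 : ∀ v w : Fin 8, (∀ k l, mk44 v w k = mk44 v w l → k = l) → ∃ i j : Fin 4, ∃ e : Fin 2,
    ∀ k, mk44 v w k = (⇑c1)^[i.val] ((⇑c2)^[j.val] ((⇑cs)^[e.val] k)) := by
  decide +kernel

theorem square44 : ∀ i j : Fin 4, ∀ e : Fin 2, (i.val + j.val) % 2 = 0 →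
    (∀ k, (⇑c1)^[i.val] ((⇑c2)^[j.val] ((⇑cs)^[e.val] ((⇑c1)^[i.val] ((⇑c2)^[j.val] ((⇑cs)^[e.val] k))))) = k) ∨
    (∀ k, (⇑c1)^[i.val] ((⇑c2)^[j.val] ((⇑cs)^[e.val] ((⇑c1)^[i.val] ((⇑c2)^[j.val] ((⇑cs)^[e.val] k))))) =
      (c1 * c2) ((c1 * c2) k)) := by
  decide +kernel

/-- The image of `k` under a permutation commuting with `(0123)(45)`. -/
def mk42 (v w u z : Fin 8) (k : Fin 8) : Fin 8 :=
  ([v, (c1 * c3) v, (⇑(c1 * c3))^[2] v, (⇑(c1 * c3))^[3] v, w, (c1 * c3) w, u, z]).getD k.val 0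

theorem enum42 : ∀ v : Fin 8, (c1 * c3) ((c1 * c3) v) ≠ v → ∀ w : Fin 8, (c1 * c3) ((c1 * c3) w) = w →
    (c1 * c3) w ≠ w → ∀ u : Fin 8, (c1 * c3) u = u → ∀ z : Fin 8, (c1 * c3) z = z → u ≠ z →
    ∃ i : Fin 4, ∃ j e : Fin 2, ∀ k, mk42 v w u z k = (⇑c1)^[i.val] ((⇑c3)^[j.val] ((⇑c4)^[e.val] k)) := by
  decide +kernel

theorem square42 : ∀ i : Fin 4, ∀ j e : Fin 2, (i.val + j.val + e.val) % 2 = 0 →
    (∀ k, (⇑c1)^[i.val] ((⇑c3)^[j.val] ((⇑c4)^[e.val] ((⇑c1)^[i.val] ((⇑c3)^[j.val] ((⇑c4)^[e.val] k))))) = k) ∨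
    (∀ k, (⇑c1)^[i.val] ((⇑c3)^[j.val] ((⇑c4)^[e.val] ((⇑c1)^[i.val] ((⇑c3)^[j.val] ((⇑c4)^[e.val] k))))) =
      (c1 * c3) ((c1 * c3) k)) := by
  decide +kernel

theorem even_of_sign {n : ℕ} (h : (-1 : ℤˣ) ^ n = 1) : n % 2 = 0 := by
  rcases Nat.even_or_odd n with h' | h'
  · exact Nat.even_iff.1 h'
  · rw [h'.neg_one_pow] at h
    exact absurd h (by decide)

theorem square_cases44 {y : Perm (Fin 8)} (hs : Perm.sign y = 1) (hc : Commute y (c1 * c2)) :
    y ^ 2 = 1 ∨ y ^ 2 = (c1 * c2) ^ 2 := by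
  have hk : ∀ k, y k = mk44 (y 0) (y 4) k := by
    intro k
    have hp : ∀ (n : ℕ) (a : Fin 8), y ((⇑(c1 * c2))^[n] a) = (⇑(c1 * c2))^[n] (y a) := by
      intro n a
      rw [← Perm.coe_pow, ← Perm.mul_apply, (hc.pow_right n).eq, Perm.mul_apply]
    have base : ∀ k : Fin 8, (k.val < 4 → (⇑(c1 * c2))^[k.val] 0 = k) ∧
        (¬ k.val < 4 → (⇑(c1 * c2))^[k.val - 4] 4 = k) := by decide +kernel
    unfold mk44
    split_ifs with h
    · rw [← hp, (base k).1 h]
    · rw [← hp, (base k).2 h]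
  obtain ⟨i, j, e, hy⟩ := enum44 (y 0) (y 4) fun k l h => y.injective (by rw [hk k, hk l, h])
  have hy' : y = c1 ^ i.val * c2 ^ j.val * cs ^ e.val := Equiv.ext fun k => by
    rw [hk, hy]; simp [Perm.mul_apply, Perm.coe_pow]
  rw [hy', map_mul, map_mul, map_pow, map_pow, map_pow, signs.1, signs.2.1, signs.2.2.1, one_pow, mul_one,
    ← pow_add] at hs
  rcases square44 i j e (even_of_sign hs) with h | h
  · exact Or.inl (Equiv.ext fun k => by
      rw [hy', pow_two, Perm.mul_apply]; simp only [Perm.mul_apply, Perm.coe_pow, Perm.one_apply]; exact h k)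
  · exact Or.inr (Equiv.ext fun k => by
      rw [hy', pow_two, pow_two, Perm.mul_apply]; simp only [Perm.mul_apply, Perm.coe_pow]; exact h k)

theorem square_cases42 {y : Perm (Fin 8)} (hs : Perm.sign y = 1) (hc : Commute y (c1 * c3)) :
    y ^ 2 = 1 ∨ y ^ 2 = (c1 * c3) ^ 2 := by
  have hp : ∀ (n : ℕ) (a : Fin 8), y ((⇑(c1 * c3))^[n] a) = (⇑(c1 * c3))^[n] (y a) := by
    intro n a
    rw [← Perm.coe_pow, ← Perm.mul_apply, (hc.pow_right n).eq, Perm.mul_apply]
  have h1 : ∀ a, y ((c1 * c3) a) = (c1 * c3) (y a) := fun a => hp 1 a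
  obtain ⟨b0, b4, b4', b6, b7⟩ : (c1 * c3) ((c1 * c3) 0) ≠ 0 ∧ (c1 * c3) ((c1 * c3) 4) = 4 ∧ (c1 * c3) 4 ≠ 4 ∧
      (c1 * c3) 6 = 6 ∧ (c1 * c3) 7 = 7 := by decide +kernel
  obtain ⟨i, j, e, hy⟩ := enum42 (y 0)
    (fun h => b0 (y.injective (by rw [h1, h1, h])))
    (y 4) (by rw [← h1, ← h1, b4]) (fun h => b4' (y.injective (by rw [h1, h])))
    (y 6) (by rw [← h1, b6]) (y 7) (by rw [← h1, b7]) (fun h => absurd (y.injective h) (by decide))
  have hk : ∀ k, y k = mk42 (y 0) (y 4) (y 6) (y 7) k := by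
    intro k
    obtain ⟨a1, a2, a3, a5⟩ : (c1 * c3) 0 = 1 ∧ (⇑(c1 * c3))^[2] 0 = 2 ∧ (⇑(c1 * c3))^[3] 0 = 3 ∧
        (c1 * c3) 4 = 5 := by decide +kernel
    fin_cases k
    · rfl
    · show y 1 = (c1 * c3) (y 0); rw [← h1, a1]
    · show y 2 = (⇑(c1 * c3))^[2] (y 0); rw [← hp, a2]
    · show y 3 = (⇑(c1 * c3))^[3] (y 0); rw [← hp, a3]
    · rfl
    · show y 5 = (c1 * c3) (y 4); rw [← h1, a5]
    · rfl
    · rfl
  have hy' : y = c1 ^ i.val * c3 ^ j.val * c4 ^ e.val := Equiv.ext fun k => by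
    rw [hk, hy]; simp [Perm.mul_apply, Perm.coe_pow]
  rw [hy', map_mul, map_mul, map_pow, map_pow, map_pow, signs.1, signs.2.2.2.1, signs.2.2.2.2,
    ← pow_add, ← pow_add] at hs
  rcases square42 i j e (even_of_sign hs) with h | h
  · exact Or.inl (Equiv.ext fun k => by
      rw [hy', pow_two, Perm.mul_apply]; simp only [Perm.mul_apply, Perm.coe_pow, Perm.one_apply]; exact h k)
  · exact Or.inr (Equiv.ext fun k => by
      rw [hy', pow_two, pow_two, Perm.mul_apply]; simp only [Perm.mul_apply, Perm.coe_pow]; exact h k)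

theorem part_dvd {α : Type*} [Fintype α] [DecidableEq α] {x : Perm α} {n a : ℕ} (hx : x ^ n = 1)
    (ha : a ∈ x.cycleType) : a ∣ n :=
  (Perm.dvd_of_mem_cycleType ha).trans (orderOf_dvd_of_pow_eq_one hx)

/-- The 2-elements of `A₈` have exponent four. -/
theorem exp_four {x : Perm (Fin 8)} (hs : Perm.sign x = 1) {n : ℕ} (hx : x ^ (2 ^ n) = 1) : x ^ 4 = 1 := by
  rw [← orderOf_dvd_iff_pow_eq_one, ← Perm.lcm_cycleType, Multiset.lcm_dvd]
  intro a ha
  have h2 := Perm.two_le_of_mem_cycleType ha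
  have hle : x.cycleType.sum ≤ 8 := by
    rw [Perm.sum_cycleType]; exact (x.support.card_le_univ).trans (le_of_eq (Fintype.card_fin 8))
  have ha8 : a ≤ 8 := (Multiset.single_le_sum (fun _ _ => Nat.zero_le _) a ha).trans hle
  obtain ⟨m, hm, rfl⟩ := (Nat.dvd_prime_pow Nat.prime_two).1 (part_dvd hx ha)
  rcases Nat.lt_or_ge m 3 with h | h
  · exact (pow_dvd_pow 2 (Nat.le_of_lt_succ h)).trans (by norm_num)
  · have hm3 : m = 3 := le_antisymm (by
      by_contra h'; have := Nat.pow_le_pow_right (show 1 ≤ 2 by norm_num) (show 4 ≤ m by omega); omega) h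
    subst hm3
    obtain ⟨t, ht⟩ := Multiset.exists_cons_of_mem ha
    have hsum : t.sum = 0 := by rw [ht, Multiset.sum_cons] at hle; norm_num at hle ⊢; omega
    have ht0 : t = 0 := Multiset.eq_zero_of_forall_notMem fun b hb => by
      have hb2 := Perm.two_le_of_mem_cycleType (show b ∈ x.cycleType from ht ▸ Multiset.mem_cons_of_mem hb)
      have := Multiset.single_le_sum (fun _ _ => Nat.zero_le _) b hb
      omega
    rw [Perm.sign_of_cycleType, ht, ht0] at hs
    simp at hs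
    exact absurd hs (by decide)

/-- No `C₄ × C₄` in `A₈`. -/
theorem no_four_four {x y : Perm (Fin 8)} (hsx : Perm.sign x = 1) (hsy : Perm.sign y = 1) (hc : Commute x y)
    (hx : x ^ 4 = 1) (hx2 : x ^ 2 ≠ 1) (hy2 : y ^ 2 ≠ 1) : x ^ 2 = y ^ 2 := by
  have hparts : ∀ a ∈ x.cycleType, a = 2 ∨ a = 4 := fun a ha => by
    have h1 := part_dvd hx ha
    have h2 := Perm.two_le_of_mem_cycleType ha
    have := Nat.le_of_dvd (by norm_num) h1
    interval_cases a
    · exact Or.inl rfl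
    · norm_num at h1
    · exact Or.inr rfl
  have h4 : 4 ∈ x.cycleType := by
    by_contra h
    apply hx2
    rw [← orderOf_dvd_iff_pow_eq_one, ← Perm.lcm_cycleType, Multiset.lcm_dvd]
    intro a ha
    rcases hparts a ha with rfl | rfl
    · exact dvd_rfl
    · exact absurd ha h
  obtain ⟨t, ht⟩ := Multiset.exists_cons_of_mem h4
  have hle : x.cycleType.sum ≤ 8 := by
    rw [Perm.sum_cycleType]; exact (x.support.card_le_univ).trans (le_of_eq (Fintype.card_fin 8))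
  rw [ht, Multiset.sum_cons] at hle
  have htsum : Multiset.card t * 2 ≤ t.sum := by
    rw [← smul_eq_mul]
    exact Multiset.card_nsmul_le_sum fun b hb => Perm.two_le_of_mem_cycleType (ht ▸ Multiset.mem_cons_of_mem hb)
  have hev : Even t.sum := by
    refine Multiset.induction_on t (fun _ => by simp) (fun b s ih hs => ?_) (fun b hb => hparts b (ht ▸ Multiset.mem_cons_of_mem hb))
    rw [Multiset.sum_cons]
    refine Even.add ?_ (ih fun c hc => hs c (Multiset.mem_cons_of_mem hc))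
    rcases hs b (Multiset.mem_cons_self _ _) with rfl | rfl <;> decide
  rw [Perm.sign_of_cycleType, ht, Multiset.sum_cons, Multiset.card_cons] at hsx
  have hpar := even_of_sign hsx
  obtain ⟨k, hk⟩ := hev
  have hc1 : Multiset.card t = 1 := by omega
  obtain ⟨a, rfl⟩ := Multiset.card_eq_one.1 hc1
  have key : ∀ x0 : Perm (Fin 8), x0.cycleType = x.cycleType →
      (∀ y0 : Perm (Fin 8), Perm.sign y0 = 1 → Commute y0 x0 → y0 ^ 2 = 1 ∨ y0 ^ 2 = x0 ^ 2) → x ^ 2 = y ^ 2 := by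
    intro x0 h0 hall
    obtain ⟨s, hs⟩ := isConj_iff.1 (Perm.isConj_iff_cycleType_eq.2 h0)
    subst hs
    set y0 := s⁻¹ * y * s with hy0
    have hye : y = s * y0 * s⁻¹ := by rw [hy0]; group
    have hsy0 : Perm.sign y0 = 1 := by
      rw [hy0, map_mul, map_mul, map_inv, hsy, mul_one, inv_mul_cancel]
    have hc0 : Commute y0 x0 := by
      have h' := hc.eq
      rw [hye] at h'
      show y0 * x0 = x0 * y0
      refine mul_left_cancel (a := s) (mul_right_cancel (b := s⁻¹) ?_)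
      calc s * (y0 * x0) * s⁻¹ = (s * y0 * s⁻¹) * (s * x0 * s⁻¹) := by group
        _ = (s * x0 * s⁻¹) * (s * y0 * s⁻¹) := h'.symm
        _ = s * (x0 * y0) * s⁻¹ := by group
    rcases hall y0 hsy0 hc0 with h | h
    · exact absurd (by rw [hye, conj_pow, h, mul_one, mul_inv_cancel]) hy2
    · rw [hye, conj_pow, conj_pow, h]
  rcases hparts a (ht ▸ Multiset.mem_cons_of_mem (Multiset.mem_singleton_self a)) with rfl | rfl
  · exact key _ (by rw [cycleType_x42, ht]; rfl) fun y0 => square_cases42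
  · exact key _ (by rw [cycleType_x44, ht]; rfl) fun y0 => square_cases44

theorem card_closure_pair {G : Type*} [Group G] [Finite G] {a b : G} (h : Commute a b) {m n : ℕ} (hm : 0 < m)
    (hn : 0 < n) (ha : a ^ m = 1) (hb : b ^ n = 1) : Nat.card ↥(Subgroup.closure {a, b}) ≤ m * n := by
  let φ : ↥(Subgroup.zpowers a) × ↥(Subgroup.zpowers b) →* G :=
    MonoidHom.noncommCoprod (Subgroup.zpowers a).subtype (Subgroup.zpowers b).subtype fun u v => by
      obtain ⟨i, hi⟩ := Subgroup.mem_zpowers_iff.1 u.2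
      obtain ⟨j, hj⟩ := Subgroup.mem_zpowers_iff.1 v.2
      simp only [Subgroup.coe_subtype]
      rw [← hi, ← hj]
      exact (h.zpow_left i).zpow_right j
  have hle : Subgroup.closure {a, b} ≤ φ.range := by
    rw [Subgroup.closure_le]
    rintro _ (rfl | rfl)
    · exact ⟨(⟨_, Subgroup.mem_zpowers _⟩, 1), by simp [φ]⟩
    · exact ⟨(1, ⟨_, Subgroup.mem_zpowers _⟩), by simp [φ]⟩
  refine (Subgroup.card_le_of_le hle).trans ((Nat.card_le_card_of_surjective _ φ.rangeRestrict_surjective).trans ?_)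
  rw [Nat.card_prod, Nat.card_zpowers, Nat.card_zpowers]
  exact Nat.mul_le_mul (orderOf_le_of_pow_eq_one hm ha) (orderOf_le_of_pow_eq_one hn hb)

/-- The main criterion. -/
theorem no_alt_eight {G : Type*} [Group G] [Finite G] {S A : Subgroup G}
    (hS : Nat.card ↥S = 2 ^ (Nat.card G).factorization 2)
    (hnorm : ∀ s ∈ S, ∀ a ∈ A, s * a * s⁻¹ ∈ A) (hidx : A.relIndex S ∣ 4)
    (hcomm : ∀ a ∈ A, ∀ b ∈ A, a * b = b * a)
    (hgen : ∀ B : Subgroup G, B ≤ A → ∃ a ∈ B, ∃ b ∈ B, B = Subgroup.closure {a, b})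
    (H : Subgroup G) (φ : ↥H →* ↥(alternatingGroup (Fin 8))) (hφ : Function.Surjective φ) : False := by
  classical
  haveI : Fact (Nat.Prime 2) := ⟨Nat.prime_two⟩
  let SS : Sylow 2 G := Sylow.ofCard S hS
  obtain ⟨P⟩ := (inferInstance : Nonempty (Sylow 2 ↥H))
  obtain ⟨Q, hQ⟩ := (P.2.map H.subtype).exists_le_sylow
  obtain ⟨g, hg⟩ := MulAction.exists_smul_eq G SS Q
  have hPS : ∀ z ∈ (P : Subgroup ↥H), g⁻¹ * (z : G) * g ∈ S := by
    intro z hz
    have h1 : (z : G) ∈ (Q : Subgroup G) := hQ ⟨z, hz, rfl⟩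
    rw [← hg] at h1
    obtain ⟨w, hw, hw'⟩ := h1
    rw [← hw']
    show g⁻¹ * (g * w * g⁻¹) * g ∈ S
    convert (show w ∈ S from hw) using 1
    group
  let ι : ↥(P : Subgroup ↥H) →* ↥S :=
    MonoidHom.mk' (fun z => ⟨g⁻¹ * ((z : ↥H) : G) * g, hPS z z.2⟩) fun u v => by
      apply Subtype.ext
      simp only [Subgroup.coe_mul]
      group
  let ψ : ↥(P : Subgroup ↥H) →* ↥((P : Subgroup ↥H).map φ) := φ.subgroupMap (P : Subgroup ↥H)
  have hψ : Function.Surjective ψ := φ.subgroupMap_surjective _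
  have h64 : Nat.card ↥((P : Subgroup ↥H).map φ) = 64 := by
    have h := (P.mapSurjective hφ).card_eq_multiplicity
    rw [Sylow.coe_mapSurjective] at h
    rw [h, show Nat.card ↥(alternatingGroup (Fin 8)) = 20160 by
      rw [nat_card_alternatingGroup, Nat.card_eq_fintype_card, Fintype.card_fin]; rfl]
    have : (20160 : ℕ).factorization 2 = 6 := by
      rw [Nat.factorization_def _ Nat.prime_two]; decide +kernel
    rw [this]; norm_num
  haveI : (A.subgroupOf S).Normal := ⟨fun a ha s => hnorm s s.2 a ha⟩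
  set K := (A.subgroupOf S).comap ι with hK
  have hKidx : K.index ∣ 4 := by
    rw [hK, ← QuotientGroup.ker_mk' (A.subgroupOf S), MonoidHom.comap_ker, Subgroup.index_ker]
    exact (Subgroup.card_subgroup_dvd_card _).trans hidx
  set B := K.map ψ with hB
  have hBidx : B.index ∣ 4 := (Subgroup.index_map_dvd K hψ).trans hKidx
  have hB16 : 16 ≤ Nat.card ↥B := by
    have h := Subgroup.card_mul_index B
    rw [h64] at h
    have := Nat.le_of_dvd (by norm_num) hBidx
    by_contra hlt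
    have : Nat.card ↥B * B.index ≤ 15 * 4 := Nat.mul_le_mul (by omega) (by omega)
    omega
  -- two generators
  set e : ↥(P : Subgroup ↥H) →* G := S.subtype.comp ι with he
  have heinj : Function.Injective e := fun u v h => by
    have h' : g⁻¹ * ((u : ↥H) : G) * g = g⁻¹ * ((v : ↥H) : G) * g := h
    exact Subtype.ext (Subtype.ext (mul_left_cancel (mul_right_cancel h')))
  obtain ⟨_, ⟨a, ha, rfl⟩, _, ⟨b, hb, rfl⟩, hgen'⟩ := hgen (K.map e) (by
    rintro _ ⟨z, hz, rfl⟩; exact hz)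
  have hKgen : K = Subgroup.closure {a, b} := by
    refine Subgroup.map_injective heinj ?_
    rw [hgen', MonoidHom.map_closure, Set.image_pair]
  have hBgen : B = Subgroup.closure {ψ a, ψ b} := by
    rw [hB, hKgen, MonoidHom.map_closure, Set.image_pair]
  have hab : Commute (ψ a) (ψ b) := by
    have : Commute a b := heinj (by
      simp only [map_mul]
      exact hcomm _ (show e a ∈ A from ha) _ (show e b ∈ A from hb))
    exact this.map ψ
  have hord : ∀ z : ↥((P : Subgroup ↥H).map φ), z ^ 4 = 1 := fun z => by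
    obtain ⟨w, rfl⟩ := hψ z
    obtain ⟨n, hn⟩ := P.2 w
    refine Subtype.ext (Subtype.ext ?_)
    refine exp_four (n := n) (Perm.mem_alternatingGroup.1 (ψ w).1.2) ?_
    rw [← SubgroupClass.coe_pow, ← SubgroupClass.coe_pow, ← map_pow, hn, map_one]
    rfl
  rw [hBgen] at hB16
  have hle := card_closure_pair hab (m := 4) (n := 4) (by norm_num) (by norm_num) (hord _) (hord _)
  by_cases ha2 : (ψ a) ^ 2 = 1
  · have := card_closure_pair hab (m := 2) (n := 4) (by norm_num) (by norm_num) ha2 (hord _); omega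
  by_cases hb2 : (ψ b) ^ 2 = 1
  · have := card_closure_pair hab (m := 4) (n := 2) (by norm_num) (by norm_num) (hord _) hb2; omega
  have hsq : (ψ a) ^ 2 = (ψ b) ^ 2 := by
    refine Subtype.ext (Subtype.ext ?_)
    refine no_four_four (Perm.mem_alternatingGroup.1 (ψ a).1.2) (Perm.mem_alternatingGroup.1 (ψ b).1.2)
      ?_ ?_ (fun h => ha2 (Subtype.ext (Subtype.ext h))) (fun h => hb2 (Subtype.ext (Subtype.ext h)))
    · exact congrArg (fun z => ((z.1 : ↥(alternatingGroup (Fin 8))) : Perm (Fin 8))) hab.eq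
    · exact congrArg (fun z => ((z.1 : ↥(alternatingGroup (Fin 8))) : Perm (Fin 8))) (hord (ψ a))
  have hc : Commute (ψ a) ((ψ a)⁻¹ * ψ b) := (Commute.refl (ψ a)).inv_right.mul_right hab
  have hc2 : ((ψ a)⁻¹ * ψ b) ^ 2 = 1 := by
    rw [hab.inv_left.mul_pow, ← hsq, inv_pow, inv_mul_cancel]
  have hle2 := card_closure_pair hc (m := 4) (n := 2) (by norm_num) (by norm_num) (hord _) hc2
  have hsub : Subgroup.closure {ψ a, ψ b} ≤ Subgroup.closure {ψ a, (ψ a)⁻¹ * ψ b} := by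
    rw [Subgroup.closure_le]
    rintro _ (rfl | rfl)
    · exact Subgroup.subset_closure (Set.mem_insert _ _)
    · have := mul_mem (Subgroup.subset_closure (Set.mem_insert (ψ a) {(ψ a)⁻¹ * ψ b}))
        (Subgroup.subset_closure (Set.mem_insert_of_mem (ψ a) (Set.mem_singleton ((ψ a)⁻¹ * ψ b))))
      rwa [mul_inv_cancel_left] at this
  have := Subgroup.card_le_of_le hsub
  omega

end H35.D4Sec
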