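import Cfsg.Agent.H52.F4Section
import Cfsg.Agent.H52.SectionFusion
import Cfsg.Agent.H52.TwistOrderD4
import Cfsg.Agent.H35.D4Torus.Fix
import Cfsg.Agent.H53.TwistD4Res

/-!
The maximally split torus of `³D₄(q)` and its normaliser.
-/

set_option autoImplicit false
set_option linter.unusedSectionVars false

namespace H35.D4Sec

open Cfsg.Lie H52 H53

variable {K : Type*} [Field K] {q : ℕ}

/-- The torus of the twisted group. -/
def DT (K : Type*) [Field K] (q : ℕ) : Subgroup ↥(twistedD4 K q) :=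
  (chevD4.diagonalSubgroup K).subgroupOf (twistedD4 K q)

/-- The monomial elements of the twisted group. -/
def NT (K : Type*) [Field K] (q : ℕ) : Subgroup ↥(twistedD4 K q) :=
  (chevD4.monomialSubgroup K).subgroupOf (twistedD4 K q)

/-- The images of the roots under the two generators of the Weyl group. -/
def gTab (k : Fin 2) (r : ℕ) : ℕ :=
  (([[1, 0, 2, 3, 5, 4, 6, 10, 11, 14, 7, 8, 15, 16, 9, 12, 13, 17, 19, 18, 20, 21, 23, 22],
    [0, 9, 8, 7, 6, 18, 4, 3, 2, 1, 13, 12, 11, 10, 22, 21, 20, 19, 5, 17, 16, 15, 14, 23]] :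
      List (List ℕ)).getD k.val []).getD r r

/-- The twelve words of the Weyl group of the twisted group. -/
def W12 : List (List (Fin 2)) :=
  [[], [0], [1], [0, 1], [1, 0], [0, 1, 0], [1, 0, 1], [0, 1, 0, 1], [1, 0, 1, 0], [0, 1, 0, 1, 0],
    [1, 0, 1, 0, 1], [0, 1, 0, 1, 0, 1]]

/-- The image of a root under a word. -/
def img (w : List (Fin 2)) (r : ℕ) : ℕ := w.foldr gTab r

set_option backward.isDefEq.respectTransparency false in
theorem gTab_eq : ∀ (k : Fin 2) (r : Fin chevD4.nroots), (D4T.spec.wperm weylForD4 k r).val = gTab k r.val := by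
  decide +kernel

theorem W12_step : ∀ k : Fin 2, ∀ w ∈ W12, (∃ w' ∈ W12, ∀ r < 24, img (k :: w) r = img w' r) ∧
    ∀ r < 24, img (w ++ w ++ w ++ w ++ w ++ w) r = r := by
  decide +kernel

theorem W12_inj : ∀ w ∈ W12, ∀ w' ∈ W12, (∀ r < 24, img w r = img w' r) → w = w' := by
  decide +kernel

theorem W12_nodup : W12.Nodup := by decide +kernel

/-- The permutation of a word. -/
def wOf (w : List (Fin 2)) : Equiv.Perm (Fin chevD4.nroots) := (w.map (D4T.spec.wperm weylForD4)).prod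

theorem wOf_val (w : List (Fin 2)) (r : Fin chevD4.nroots) : (wOf w r).val = img w r.val := by
  induction w with
  | nil => rfl
  | cons k w ih =>
    show (D4T.spec.wperm weylForD4 k (wOf w r)).val = gTab k (img w r.val)
    rw [gTab_eq, ih]

theorem wOf_eq {w w' : List (Fin 2)} (h : ∀ r < 24, img w r = img w' r) : wOf w = wOf w' :=
  Equiv.ext fun r => Fin.ext (by rw [wOf_val, wOf_val, h r.val r.isLt])

theorem mem_W12 {π : Equiv.Perm (Fin chevD4.nroots)} :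
    π ∈ Subgroup.closure (Set.range (D4T.spec.wperm weylForD4)) ↔ ∃ w ∈ W12, wOf w = π := by
  constructor
  · intro h
    refine Subgroup.closure_induction_left (p := fun x _ => ∃ w ∈ W12, wOf w = x) ?_ ?_ ?_ h
    · exact ⟨[], by simp [W12], rfl⟩
    · rintro _ ⟨k, rfl⟩ y _ ⟨w, hw, rfl⟩
      obtain ⟨w', hw', he⟩ := (W12_step k w hw).1
      exact ⟨w', hw', (wOf_eq he).symm⟩
    · rintro _ ⟨k, rfl⟩ y _ ⟨w, hw, rfl⟩
      have e : (D4T.spec.wperm weylForD4 k)⁻¹ = D4T.spec.wperm weylForD4 k := by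
        refine inv_eq_of_mul_eq_one_right (Equiv.ext fun r => Fin.ext ?_)
        rw [Equiv.Perm.mul_apply, gTab_eq, gTab_eq]
        have key : ∀ (k : Fin 2), ∀ r < 24, gTab k (gTab k r) = r := by decide +kernel
        exact key k r.val r.isLt
      rw [e]
      obtain ⟨w', hw', he⟩ := (W12_step k w hw).1
      exact ⟨w', hw', (wOf_eq he).symm⟩
  · rintro ⟨w, -, rfl⟩
    refine list_prod_mem fun x hx => ?_
    obtain ⟨k, -, rfl⟩ := List.mem_map.1 hx
    exact Subgroup.subset_closure ⟨k, rfl⟩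

theorem card_weyl : Nat.card ↥(Subgroup.closure (Set.range (D4T.spec.wperm weylForD4))) = 12 := by
  classical
  have e : {w : List (Fin 2) // w ∈ W12.toFinset} ≃ ↥(Subgroup.closure (Set.range (D4T.spec.wperm weylForD4))) :=
    Equiv.ofBijective (fun w => ⟨wOf w.1, mem_W12.2 ⟨w.1, List.mem_toFinset.1 w.2, rfl⟩⟩)
      ⟨fun w w' h => by
        refine Subtype.ext (W12_inj _ (List.mem_toFinset.1 w.2) _ (List.mem_toFinset.1 w'.2) fun r hr => ?_)
        have := congrArg (fun z => ((z.1 : Equiv.Perm (Fin chevD4.nroots)) ⟨r, hr⟩).val) h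
        simpa [wOf_val] using this,
      fun π => by
        obtain ⟨w, hw, he⟩ := mem_W12.1 π.2
        exact ⟨⟨w, List.mem_toFinset.2 hw⟩, Subtype.ext he⟩⟩
  rw [← Nat.card_congr e, Nat.card_eq_fintype_card, Fintype.card_coe, List.toFinset_card_of_nodup W12_nodup]
  rfl

theorem weyl_six {π : Equiv.Perm (Fin chevD4.nroots)}
    (h : π ∈ Subgroup.closure (Set.range (D4T.spec.wperm weylForD4))) : π ^ 6 = 1 := by
  obtain ⟨w, hw, rfl⟩ := mem_W12.1 h
  have : wOf w ^ 6 = wOf (w ++ w ++ w ++ w ++ w ++ w) := by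
    simp [wOf, pow_succ, mul_assoc]
  rw [this]
  exact wOf_eq (w' := []) fun r hr => (W12_step 0 w hw).2 r hr

theorem DT_comm : ∀ s ∈ DT K q, ∀ t ∈ DT K q, s * t = t * s := by
  intro s hs t ht
  rw [DT, Subgroup.mem_subgroupOf, checkedD4.diagonalSubgroup_eq] at hs ht
  obtain ⟨c, hc⟩ := hs
  obtain ⟨c', hc'⟩ := ht
  apply Subtype.ext
  rw [Subgroup.coe_mul, Subgroup.coe_mul, ← hc, ← hc', ← map_mul, ← map_mul, mul_comm]

variable [Fintype K] (hq : IsPrimePow q) (hK : Fintype.card K = q ^ 3)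
include hq hK

theorem fusion : SecFus.Fusion (DT K q) (NT K q) := by
  intro b
  obtain ⟨f, hf⟩ := D4T.exists_f hq hK
  have hcomm : ∀ h z : ↥(chevD4.group K), h ∈ (grpSys weylForD4 K).H → z ∈ (grpSys weylForD4 K).H →
      h * z = z * h := by
    intro h z hh hz
    rw [← mem_diag_iff checkedD4 weylForD4, checkedD4.diagonalSubgroup_eq] at hh hz
    obtain ⟨c, hc⟩ := hh
    obtain ⟨c', hc'⟩ := hz
    apply Subtype.ext
    rw [Subgroup.coe_mul, Subgroup.coe_mul, ← hc, ← hc', ← map_mul, ← map_mul, mul_comm]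
  obtain ⟨n, hn, hnc⟩ := F4Sec.torus_fusion (D4T.hyp (D4T.qqq hK) hf) hcomm
    (g := (⟨b.1, D4T.twisted_le _ b.2⟩ : ↥(chevD4.group K))) (show b.1 ∈ twistedD4 K q from b.2)
  refine ⟨⟨(n : GL chevD4.Idx K), (Subgroup.mem_inf.1 hn).2⟩, ?_, fun y hy hby => ?_⟩
  · exact (mem_monomial_iff checkedD4 weylForD4 D4T.ok n).2 (Subgroup.mem_inf.1 hn).1
  · have e1 := hnc ⟨y.1, D4T.twisted_le _ y.2⟩ ((mem_diag_iff checkedD4 weylForD4 _).1 hy)
      ((mem_diag_iff checkedD4 weylForD4 _).1 hby)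
    refine Subtype.ext ?_
    have e2 := congrArg Subtype.val e1
    simp only [Subgroup.coe_mul, Subgroup.coe_inv] at e2 ⊢
    exact e2

/-- The monomial elements modulo the torus. -/
theorem exists_quot : ∃ φ : ↥(NT K q) →* ↥(Subgroup.closure (Set.range (D4T.spec.wperm weylForD4))),
    Function.Surjective φ ∧ φ.ker = (DT K q).subgroupOf (NT K q) := by
  obtain ⟨φ, hs, hk⟩ := D4T.weyl hq hK
  let i : ↥(NT K q) →* ↥(chevD4.monomialSubgroup K ⊓ twistedD4 K q) :=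
    { toFun := fun n => ⟨n.1.1, n.2, n.1.2⟩
      map_one' := rfl
      map_mul' := fun _ _ => rfl }
  refine ⟨φ.comp i, fun w => ?_, ?_⟩
  · obtain ⟨x, hx⟩ := hs w
    exact ⟨⟨⟨x.1, x.2.2⟩, x.2.1⟩, hx⟩
  · ext n
    constructor
    · intro h
      exact (Subgroup.mem_inf.1 (Subgroup.mem_subgroupOf.1 (le_of_eq hk (h : i n ∈ φ.ker)))).1
    · intro h
      exact le_of_eq hk.symm (Subgroup.mem_subgroupOf.2 (Subgroup.mem_inf.2 ⟨h, n.1.2⟩) : i n ∈ _)

theorem six_fix : ∀ n ∈ NT K q, ∀ t ∈ DT K q, n ^ 6 * t * (n ^ 6)⁻¹ = t := by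
  intro n hn t ht
  obtain ⟨φ, -, hk⟩ := exists_quot hq hK
  have h6 : φ (⟨n, hn⟩ ^ 6) = 1 := by
    rw [map_pow]
    exact Subtype.ext (by rw [SubgroupClass.coe_pow]; exact weyl_six (φ ⟨n, hn⟩).2)
  have h6' : n ^ 6 ∈ DT K q := by
    have := le_of_eq hk (MonoidHom.mem_ker.2 h6)
    rwa [Subgroup.mem_subgroupOf, SubgroupClass.coe_pow] at this
  rw [DT_comm _ h6' t ht, mul_inv_cancel_right]

theorem DT_le_NT : DT K q ≤ NT K q := fun t ht => by
  have : chevD4.diagonalSubgroup K ≤ chevD4.monomialSubgroup K := by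
    intro d hd
    have hd' : (⟨d, checkedD4.diag_le_group hd⟩ : ↥(chevD4.group K)) ∈ (grpSys weylForD4 K).H :=
      (mem_diag_iff checkedD4 weylForD4 _).1 hd
    exact (mem_monomial_iff checkedD4 weylForD4 D4T.ok ⟨d, _⟩).2 (RootGroupSys.H_le_N hd')
  exact this ht

theorem card_NT : Nat.card ↥(NT K q) = 12 * Nat.card ↥(DT K q) := by
  obtain ⟨φ, hs, hk⟩ := exists_quot hq hK
  have h := Subgroup.card_eq_card_quotient_mul_card_subgroup φ.ker
  rwa [Nat.card_congr (QuotientGroup.quotientKerEquivOfSurjective φ hs).toEquiv, card_weyl, hk,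
    Nat.card_congr (Subgroup.subgroupOfEquivOfLe (DT_le_NT hq hK)).toEquiv] at h

theorem card_dvd_DT : (q - 1) ^ 2 * (q ^ 2 + q + 1) ∣ Nat.card ↥(DT K q) := by
  obtain ⟨T, X, hf⟩ := exists_twistD4 hq hK
  rw [← d4_card_torus X hf hK]
  have hle : X.torusT ≤ chevD4.diagonalSubgroup K ⊓ twistedD4 K q := by
    refine le_inf ?_ (twistD4_grp X hf hK ▸ X.torusT_le_grp)
    rintro _ ⟨c, -, rfl⟩
    rw [checkedD4.diagonalSubgroup_eq]
    exact ⟨c, rfl⟩
  refine (Subgroup.card_dvd_of_le hle).trans (dvd_of_eq ?_)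
  exact Nat.card_congr
    { toFun := fun z => ⟨⟨z.1, z.2.2⟩, z.2.1⟩
      invFun := fun z => ⟨z.1.1, z.2, z.1.2⟩
      left_inv := fun _ => rfl
      right_inv := fun _ => rfl }

/-- Every subgroup of the torus is generated by two elements. -/
theorem exists_two_gen {A : Subgroup ↥(twistedD4 K q)} (hA : A ≤ DT K q) :
    ∃ a ∈ A, ∃ b ∈ A, A = Subgroup.closure {a, b} := by
  classical
  obtain ⟨f, hf⟩ := D4T.exists_f hq hK
  have hF : D4Min.Frob q f := ⟨hf, fun t => by rw [hf, hf, hf]; exact D4T.qqq hK t⟩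
  obtain ⟨Ψ, hΨ⟩ : ∃ Ψ : (Fin chevD4.rank → Kˣ) →* Kˣ × Kˣ, ∀ c, Ψ c =
      (∏ i, c i ^ chevD4.cartan i.val 18, ∏ i, c i ^ chevD4.cartan i.val 14) :=
    ⟨MonoidHom.mk' (fun c => (∏ i, c i ^ chevD4.cartan i.val 18, ∏ i, c i ^ chevD4.cartan i.val 14))
      fun c d => by simp [mul_zpow, Finset.prod_mul_distrib], fun _ => rfl⟩
  let CA : Subgroup (Fin chevD4.rank → Kˣ) := (A.map (twistedD4 K q).subtype).comap (torus chevD4)
  have hinj : ∀ c c' : Fin chevD4.rank → Kˣ, torus chevD4 c ∈ twistedD4 K q →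
      torus chevD4 c' ∈ twistedD4 K q → Ψ c = Ψ c' → torus chevD4 c = torus chevD4 c' := by
    intro c c' hc hc' h
    obtain ⟨e1, e2, -⟩ := D4Torus.wt_fixed hF hc
    obtain ⟨e1', e2', -⟩ := D4Torus.wt_fixed hF hc'
    rw [hΨ, hΨ] at h
    have h18 : D4Min.wt c 18 = D4Min.wt c' 18 := congrArg (fun z => ((z.1 : Kˣ) : K)) h
    have h13 : D4Min.wt c 13 = D4Min.wt c' 13 := by rw [← e1, ← e1', h18]
    exact D4Torus.torus_ext h18 (congrArg (fun z => ((z.2 : Kˣ) : K)) h) h13 (by rw [← e2, ← e2', h13])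
  -- two generators of the image
  set U := CA.map Ψ
  obtain ⟨a, ha⟩ := IsCyclic.exists_generator (α := ↥(U.map (MonoidHom.fst Kˣ Kˣ)))
  obtain ⟨b, hb⟩ := IsCyclic.exists_generator (α := ↥(U.comap (MonoidHom.inr Kˣ Kˣ)))
  obtain ⟨_, ⟨c1, hc1, rfl⟩, hu1⟩ := a.2
  obtain ⟨c2, hc2, hu2⟩ := b.2
  obtain ⟨x, hx, hxc⟩ := (show torus chevD4 c1 ∈ A.map (twistedD4 K q).subtype from hc1)
  obtain ⟨y, hy, hyc⟩ := (show torus chevD4 c2 ∈ A.map (twistedD4 K q).subtype from hc2)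
  refine ⟨x, hx, y, hy, le_antisymm (fun z hz => ?_) ((Subgroup.closure_le _).2 ?_)⟩
  · have hzd := hA hz
    rw [DT, Subgroup.mem_subgroupOf, checkedD4.diagonalSubgroup_eq] at hzd
    obtain ⟨c, hc⟩ := hzd
    have hcA : c ∈ CA := ⟨z, hz, hc.symm⟩
    obtain ⟨i, hi⟩ := Subgroup.mem_zpowers_iff.1 (ha ⟨(Ψ c).1, Ψ c, ⟨c, hcA, rfl⟩, rfl⟩)
    have hi' : (Ψ c1).1 ^ i = (Ψ c).1 := by
      have := congrArg Subtype.val hi
      rw [SubgroupClass.coe_zpow, ← hu1] at this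
      exact this
    have hrest : ((Ψ c1 ^ i)⁻¹ * Ψ c).2 ∈ U.comap (MonoidHom.inr Kˣ Kˣ) := by
      refine ⟨(c1 ^ i)⁻¹ * c, mul_mem (inv_mem (zpow_mem hc1 i)) hcA, ?_⟩
      rw [map_mul, map_inv, map_zpow]
      refine Prod.ext ?_ rfl
      show ((Ψ c1).1 ^ i)⁻¹ * (Ψ c).1 = 1
      rw [hi', inv_mul_cancel]
    obtain ⟨j, hj⟩ := Subgroup.mem_zpowers_iff.1 (hb ⟨_, hrest⟩)
    have hj' : (b : Kˣ) ^ j = ((Ψ c1 ^ i)⁻¹ * Ψ c).2 := by
      simpa [SubgroupClass.coe_zpow] using congrArg Subtype.val hj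
    have he : Ψ c = Ψ (c1 ^ i * c2 ^ j) := by
      rw [map_mul, map_zpow, map_zpow, show Ψ c2 = (1, (b : Kˣ)) from hu2]
      refine Prod.ext ?_ ?_
      · show (Ψ c).1 = (Ψ c1).1 ^ i * 1 ^ j
        rw [one_zpow, mul_one, hi']
      · show (Ψ c).2 = (Ψ c1).2 ^ i * (b : Kˣ) ^ j
        rw [hj']
        show (Ψ c).2 = (Ψ c1).2 ^ i * (((Ψ c1).2 ^ i)⁻¹ * (Ψ c).2)
        rw [mul_inv_cancel_left]
    have hmem : x ^ i * y ^ j ∈ Subgroup.closure {x, y} :=
      mul_mem (zpow_mem (Subgroup.subset_closure (Set.mem_insert x {y})) i)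
        (zpow_mem (Subgroup.subset_closure (Set.mem_insert_of_mem x (Set.mem_singleton y))) j)
    have hz' : z = x ^ i * y ^ j := by
      apply Subtype.ext
      have e := hinj c (c1 ^ i * c2 ^ j) (hc ▸ z.2) (by
        rw [map_mul, map_zpow, map_zpow, ← hxc, ← hyc]
        exact mul_mem (zpow_mem x.2 i) (zpow_mem y.2 j)) he
      rw [← hc, e, map_mul, map_zpow, map_zpow, ← hxc, ← hyc, Subgroup.coe_mul, SubgroupClass.coe_zpow,
        SubgroupClass.coe_zpow]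
      rfl
    rwa [hz']
  · intro z hz
    rcases hz with rfl | rfl
    exacts [hx, hy]

end H35.D4Sec
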