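import Cfsg.Agent.H35.D4Sec.Frame
import Cfsg.Agent.H35.D4Sec.AltEight
import Cfsg.Agent.H52.SectionFusion
import Cfsg.Agent.H54.ChevBaseChange

/-!
Alternating sections of `³D₄(q)`.
-/

set_option autoImplicit false
set_option linter.unusedSectionVars false

namespace H35.D4Sec

open Cfsg.Lie H52 H53

/-- An element of order five conjugate to its square. -/
theorem alt_seven {r : ℕ} (hr : 7 ≤ r) :
    ∃ x g : ↥(alternatingGroup (Fin r)), x ^ 5 = 1 ∧ x ≠ 1 ∧ g * x * g⁻¹ = x ^ 2 := by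
  let x7 : Equiv.Perm (Fin 7) := ⟨![1, 2, 3, 4, 0, 5, 6], ![4, 0, 1, 2, 3, 5, 6], by decide, by decide⟩
  let g7 : Equiv.Perm (Fin 7) := ⟨![0, 2, 4, 1, 3, 6, 5], ![0, 3, 1, 4, 2, 6, 5], by decide, by decide⟩
  obtain ⟨h1, h2, h3, h4, h5⟩ : x7 ^ 5 = 1 ∧ x7 ≠ 1 ∧ g7 * x7 * g7⁻¹ = x7 ^ 2 ∧
      Equiv.Perm.sign x7 = 1 ∧ Equiv.Perm.sign g7 = 1 := by decide +kernel
  let f := Equiv.ofInjective (Fin.castLE hr) (Fin.castLE_injective hr)
  let e : Equiv.Perm (Fin 7) →* Equiv.Perm (Fin r) := Equiv.Perm.extendDomainHom f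
  have hs : ∀ p : Equiv.Perm (Fin 7), Equiv.Perm.sign (e p) = Equiv.Perm.sign p := fun p =>
    Equiv.Perm.sign_extendDomain p f
  have hinj : Function.Injective e := Equiv.Perm.extendDomainHom_injective f
  refine ⟨⟨e x7, (hs x7).trans h4⟩, ⟨e g7, (hs g7).trans h5⟩, Subtype.ext ?_, fun h => h2 (hinj ?_),
    Subtype.ext ?_⟩
  · simp only [SubgroupClass.coe_pow, OneMemClass.coe_one, ← map_pow, h1, map_one]
  · simpa using congrArg Subtype.val h
  · simp only [Subgroup.coe_mul, Subgroup.coe_inv, SubgroupClass.coe_pow, ← map_inv, ← map_mul, ← map_pow, h3]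

/-- The inclusion `A₈ → A_r`. -/
theorem alt_eight_hom {r : ℕ} (hr : 8 ≤ r) :
    ∃ e : ↥(alternatingGroup (Fin 8)) →* ↥(alternatingGroup (Fin r)), Function.Injective e := by
  let f := Equiv.ofInjective (Fin.castLE hr) (Fin.castLE_injective hr)
  let e : Equiv.Perm (Fin 8) →* Equiv.Perm (Fin r) := Equiv.Perm.extendDomainHom f
  refine ⟨(e.comp (alternatingGroup (Fin 8)).subtype).codRestrict _ fun p => ?_, fun a b h => Subtype.ext ?_⟩
  · exact Equiv.Perm.mem_alternatingGroup.2 ((Equiv.Perm.sign_extendDomain (p : Equiv.Perm (Fin 8)) f).trans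
      (Equiv.Perm.mem_alternatingGroup.1 p.2))
  · exact Equiv.Perm.extendDomainHom_injective f (congrArg Subtype.val h)

variable {K : Type*} [Field K] [Fintype K] {q : ℕ}

theorem index_DT (hq : IsPrimePow q) (hK : Fintype.card K = q ^ 3) :
    (DT K q).index ∣ q ^ 12 * ((q + 1) * ((q + 1) * ((q ^ 2 - q + 1) * (q ^ 8 + q ^ 4 + 1)))) := by
  obtain ⟨k, hk⟩ := card_dvd_DT hq hK
  have hq1 := hq.one_lt
  have hcard := Subgroup.card_mul_index (DT K q)
  rw [d4t_card hq hK, hk] at hcard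
  have hsq : q ≤ q ^ 2 := by nlinarith
  have e : q ^ 12 * (q ^ 2 - 1) * (q ^ 6 - 1) * (q ^ 8 + q ^ 4 + 1) = ((q - 1) ^ 2 * (q ^ 2 + q + 1)) *
      (q ^ 12 * ((q + 1) * ((q + 1) * ((q ^ 2 - q + 1) * (q ^ 8 + q ^ 4 + 1))))) := by
    zify [hsq, (show 1 ≤ q by omega), (Nat.one_le_pow 2 q (by omega)), (Nat.one_le_pow 6 q (by omega))]
    ring
  rw [e, mul_assoc ((q - 1) ^ 2 * (q ^ 2 + q + 1))] at hcard
  refine ⟨k, ?_⟩
  rw [mul_comm (DT K q).index]
  exact (Nat.eq_of_mul_eq_mul_left (Nat.mul_pos (pow_pos (by omega) 2) (by positivity)) hcard).symm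

/-- The field extension of degree four induces an embedding of the twisted groups. -/
theorem exists_embedding {L : Type*} [Field L] (ι : K →+* L) (hK : Fintype.card K = q ^ 3) :
    ∃ e : ↥(twistedD4 K q) →* ↥(twistedD4 L (q ^ 4)), Function.Injective e := by
  obtain ⟨C⟩ := H54.exists_ctx (D := chevD4) (by simp)
  have hqq : ∀ t : K, t ^ q ^ 3 = t := fun t => by rw [← hK]; exact FiniteField.pow_card t
  have key : twistedD4 K q ≤ (twistedD4 L (q ^ 4)).comap (H54.glF chevD4 ι) := by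
    refine (Subgroup.closure_le _).2 fun g hg => ?_
    rw [SetLike.mem_coe, Subgroup.mem_comap]
    rcases D4T.gen_eq hg with ⟨r, hr, t, ht, rfl⟩ | ⟨⟨a, b, c⟩, habc, t, rfl⟩
    · rw [C.glF_rt]
      refine D4T.single_mem hr ?_
      rw [← map_pow]
      congr 1
      rw [show q ^ 4 = q ^ 3 * q by ring, pow_mul, hqq, ht]
    · rw [map_mul, map_mul, C.glF_rt, C.glF_rt, C.glF_rt, map_pow, map_pow]
      have h := D4T.triple_mem (q ^ 4) habc (ι t)
      rw [← map_pow, ← map_pow, show t ^ q ^ 4 = t ^ q by rw [show q ^ 4 = q ^ 3 * q by ring, pow_mul, hqq],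
        show t ^ (q ^ 4) ^ 2 = t ^ q ^ 2 by
          rw [show (q ^ 4) ^ 2 = q ^ 3 * (q ^ 3 * q ^ 2) by ring, pow_mul, hqq, pow_mul, hqq],
        map_pow, map_pow] at h
      exact h
  exact ⟨((H54.glF chevD4 ι).comp (twistedD4 K q).subtype).codRestrict _ fun g => key g.2,
    fun a b h => Subtype.ext (H54.glF_injective ι (congrArg Subtype.val h))⟩

theorem two_part (h4 : q % 4 = 1) : ∃ M, ¬ 2 ∣ M ∧
    q ^ 12 * (q ^ 2 - 1) * (q ^ 6 - 1) * (q ^ 8 + q ^ 4 + 1) = (q - 1) ^ 2 * (q ^ 2 + q + 1) * 4 * M := by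
  obtain ⟨u, hu⟩ : ∃ u, q = 4 * u + 1 := ⟨q / 4, by omega⟩
  refine ⟨q ^ 12 * ((2 * u + 1) * ((2 * u + 1) * ((q ^ 2 - q + 1) * (q ^ 8 + q ^ 4 + 1)))), ?_, ?_⟩
  · rw [← even_iff_two_dvd, Nat.not_even_iff_odd]
    have hodd : Odd q := ⟨2 * u, by omega⟩
    have hev : Even (q ^ 2 - q) := (Nat.even_sub (Nat.le_self_pow (by norm_num) q)).2
      (iff_of_false (Nat.not_even_iff_odd.2 hodd.pow) (Nat.not_even_iff_odd.2 hodd))
    exact hodd.pow.mul (Odd.mul ⟨u, rfl⟩ (Odd.mul ⟨u, rfl⟩ (hev.add_one.mul ((hodd.pow.add_odd hodd.pow).add_odd odd_one))))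
  · have h1 : 1 ≤ q := by omega
    zify [Nat.le_self_pow (show 2 ≠ 0 by norm_num) q, h1, Nat.one_le_pow 2 q h1, Nat.one_le_pow 6 q h1]
    have : (q : ℤ) + 1 = 2 * (2 * (u : ℤ) + 1) := by omega
    linear_combination ((q : ℤ) ^ 12 * ((q : ℤ) ^ 2 - q + 1) * ((q : ℤ) ^ 8 + (q : ℤ) ^ 4 + 1) * ((q : ℤ) - 1) ^ 2 *
      ((q : ℤ) ^ 2 + q + 1) * ((q : ℤ) + 1 + 2 * (2 * (u : ℤ) + 1))) * this

/-- Odd `q ≡ 1 (mod 4)`: no section `A₈`. -/
theorem no_eight (hq : IsPrimePow q) (hK : Fintype.card K = q ^ 3) (h4 : q % 4 = 1) {r : ℕ} (hr : 8 ≤ r)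
    (H : Subgroup ↥(twistedD4 K q)) (φ : ↥H →* ↥(alternatingGroup (Fin r))) (hφ : Function.Surjective φ) :
    False := by
  classical
  haveI : Fact (Nat.Prime 2) := ⟨Nat.prime_two⟩
  obtain ⟨e, he⟩ := alt_eight_hom hr
  set H8 : Subgroup ↥(twistedD4 K q) := (e.range.comap φ).map H.subtype
  let ψ : ↥(e.range.comap φ) →* ↥e.range := φ.subgroupComap e.range
  have hψ : Function.Surjective ψ := fun z => by
    obtain ⟨w, hw⟩ := hφ z
    exact ⟨⟨w, show φ w ∈ e.range from hw ▸ z.2⟩, Subtype.ext hw⟩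
  let φ8 : ↥H8 →* ↥(alternatingGroup (Fin 8)) :=
    ((MonoidHom.ofInjective he).symm.toMonoidHom.comp ψ).comp
      ((e.range.comap φ).equivMapOfInjective H.subtype Subtype.val_injective).symm.toMonoidHom
  have hφ8 : Function.Surjective φ8 := ((MonoidHom.ofInjective he).symm.surjective.comp hψ).comp
    ((e.range.comap φ).equivMapOfInjective H.subtype Subtype.val_injective).symm.surjective
  obtain ⟨S⟩ := (inferInstance : Nonempty (Sylow 2 ↥(NT K q)))
  set S' := (S : Subgroup ↥(NT K q)).map (NT K q).subtype with hS'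
  have hN : Nat.card ↥S' = 2 ^ (Nat.card ↥(NT K q)).factorization 2 := by
    rw [hS', Subgroup.card_map_of_injective Subtype.val_injective, S.card_eq_multiplicity]
  have hfac : (Nat.card ↥(twistedD4 K q)).factorization 2 = (Nat.card ↥(NT K q)).factorization 2 := by
    obtain ⟨k, hk⟩ := card_dvd_DT hq hK
    refine le_antisymm ?_
      ((Nat.factorization_le_iff_dvd Nat.card_pos.ne' Nat.card_pos.ne').2 (Subgroup.card_subgroup_dvd_card _) 2)
    obtain ⟨M, hM, hG⟩ := two_part h4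
    rw [card_NT hq hK, hk, d4t_card hq hK, hG]
    have hk0 : 0 < k := by
      refine Nat.pos_of_ne_zero fun h0 => ?_
      have : 0 < Nat.card ↥(DT K q) := Nat.card_pos
      rw [hk, h0, mul_zero] at this
      exact this.false
    have hE : 0 < (q - 1) ^ 2 * (q ^ 2 + q + 1) := by
      have := hq.one_lt
      exact Nat.mul_pos (pow_pos (by omega) 2) (Nat.succ_pos _)
    rw [Nat.factorization_mul (Nat.mul_pos hE (by norm_num)).ne' (fun h => hM (by rw [h]; exact dvd_zero 2)), Finsupp.add_apply,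
      Nat.factorization_eq_zero_of_not_dvd hM, add_zero]
    exact (Nat.factorization_le_iff_dvd (Nat.mul_pos hE (by norm_num)).ne'
      (Nat.mul_pos (by norm_num) (Nat.mul_pos hE hk0)).ne').2 ⟨3 * k, by ring⟩ 2
  have hle : S' ≤ NT K q := Subgroup.map_subtype_le _
  refine no_alt_eight (S := S') (A := DT K q ⊓ S') (by rw [hN, hfac]) ?_ ?_ (fun a ha b hb => DT_comm a ha.1 b hb.1)
    (fun B hB => exists_two_gen hq hK (hB.trans inf_le_left)) H8 φ8 hφ8
  · intro s hs a ha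
    obtain ⟨ha1, ha2⟩ := Subgroup.mem_inf.1 ha
    refine Subgroup.mem_inf.2 ⟨?_, S'.mul_mem (S'.mul_mem hs ha2) (S'.inv_mem hs)⟩
    obtain ⟨ω, -, hω⟩ := exists_quot hq hK
    have hn : (DT K q).subgroupOf (NT K q) = ω.ker := hω.symm
    haveI : ((DT K q).subgroupOf (NT K q)).Normal := hn ▸ inferInstance
    exact Subgroup.Normal.conj_mem (H := (DT K q).subgroupOf (NT K q)) inferInstance ⟨a, hle ha2⟩ ha1 ⟨s, hle hs⟩
  · obtain ⟨n, hn⟩ := IsPGroup.iff_card.1 ((S.2.map (NT K q).subtype))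
    have hdvd : (DT K q ⊓ S').relIndex S' ∣ 12 := by
      obtain ⟨ω, hs, hω⟩ := exists_quot hq hK
      haveI : ((DT K q).subgroupOf (NT K q)).Normal := hω ▸ inferInstance
      rw [Subgroup.inf_relIndex_right, ← Subgroup.relIndex_subgroupOf hle]
      refine (Subgroup.relIndex_dvd_index_of_normal _ _).trans (dvd_of_eq ?_)
      rw [← hω, Subgroup.index_ker, MonoidHom.range_eq_top.2 hs, Subgroup.card_top, card_weyl]
    have h2 : (DT K q ⊓ S').relIndex S' ∣ 2 ^ n := by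
      rw [← hn]
      exact Subgroup.index_dvd_card ((DT K q ⊓ S').subgroupOf S')
    obtain ⟨m, hm, he'⟩ := (Nat.dvd_prime_pow Nat.prime_two).1 h2
    rw [he'] at hdvd ⊢
    have : m ≤ 2 := by
      by_contra h
      have := (pow_dvd_pow 2 (show 3 ≤ m by omega)).trans hdvd
      norm_num at this
    exact (pow_dvd_pow 2 this).trans (by norm_num)

theorem five_ne : ((1 : ZMod 5) ^ 12 * ((1 + 1) * ((1 + 1) * ((1 ^ 2 - 1 + 1) * (1 ^ 8 + 1 ^ 4 + 1))))) ≠ 0 := by decide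

theorem sections (p a : ℕ) [Fact p.Prime] [CharP K p] (ha : 1 ≤ a) (hK : Fintype.card K = (p ^ a) ^ 3) (r : ℕ)
    (H : Subgroup ↥(twistedD4 K (p ^ a))) (N : Subgroup ↥H) [N.Normal]
    (h : Nonempty (↥H ⧸ N ≃* ↥(alternatingGroup (Fin r)))) :
    r ≤ 6 + (if p = 5 then 1 else 0) := by
  classical
  obtain ⟨e⟩ := h
  have hq : IsPrimePow (p ^ a) := (Fact.out : p.Prime).isPrimePow.pow (by omega)
  let φ0 : ↥H →* ↥(alternatingGroup (Fin r)) := e.toMonoidHom.comp (QuotientGroup.mk' N)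
  have hφ0 : Function.Surjective φ0 := e.surjective.comp (QuotientGroup.mk'_surjective N)
  by_contra hr
  by_cases hp : p = 5
  · rw [if_pos hp] at hr
    refine no_eight hq hK ?_ (show 8 ≤ r by omega) H φ0 hφ0
    rw [hp, Nat.pow_mod]; norm_num
  rw [if_neg hp] at hr
  -- a field extension of degree four
  let L := FiniteField.Extension K p 4
  letI : Fintype L := Fintype.ofFinite L
  have hL : Fintype.card L = ((p ^ a) ^ 4) ^ 3 := by
    rw [← Nat.card_eq_fintype_card, FiniteField.natCard_extension, Nat.card_eq_fintype_card, hK]; ring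
  have hQ : IsPrimePow ((p ^ a) ^ 4) := hq.pow (by norm_num)
  set Q := (p ^ a) ^ 4 with hQdef
  obtain ⟨em, hem⟩ : ∃ e : ↥(twistedD4 K (p ^ a)) →* ↥(twistedD4 L Q), Function.Injective e :=
    exists_embedding (q := p ^ a) (algebraMap K L) hK
  set M := H.map em
  let φ : ↥M →* ↥(alternatingGroup (Fin r)) := φ0.comp (H.equivMapOfInjective em hem).symm.toMonoidHom
  have hφ : Function.Surjective φ := hφ0.comp (H.equivMapOfInjective em hem).symm.surjective
  obtain ⟨x, g, hx, hx1, hg⟩ := alt_seven (r := r) (by omega)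
  obtain ⟨ℓ, hℓ, hℓp⟩ := Nat.exists_infinite_primes ((DT L Q).index + 7)
  haveI : Fact (Nat.Prime 5) := ⟨by norm_num⟩
  haveI : Fact ℓ.Prime := ⟨hℓp⟩
  have hidx5 : ¬ 5 ∣ (DT L Q).index := by
    have h1 : Q % 5 = 1 := by
      have h5 : ¬ 5 ∣ p ^ a := fun h => hp ((Nat.prime_dvd_prime_iff_eq (by norm_num) Fact.out).1
        ((show Nat.Prime 5 by norm_num).dvd_of_dvd_pow h)).symm
      have hm : (p ^ a) % 5 = 1 ∨ (p ^ a) % 5 = 2 ∨ (p ^ a) % 5 = 3 ∨ (p ^ a) % 5 = 4 := by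
        have := Nat.mod_lt (p ^ a) (show 5 > 0 by norm_num)
        omega
      rw [hQdef, Nat.pow_mod]
      rcases hm with h | h | h | h <;> rw [h]
    intro hd
    have hd' := hd.trans (index_DT hQ hL)
    have hsq : Q ≤ Q ^ 2 := Nat.le_self_pow (by norm_num) Q
    have hz : (((Q ^ 12 * ((Q + 1) * ((Q + 1) * ((Q ^ 2 - Q + 1) * (Q ^ 8 + Q ^ 4 + 1))))) : ℕ) : ZMod 5) = 0 :=
      (ZMod.natCast_eq_zero_iff _ _).2 hd'
    have hQ5 : (Q : ZMod 5) = 1 := by
      rw [← ZMod.natCast_mod, h1, Nat.cast_one]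
    push_cast [Nat.cast_sub hsq, hQ5] at hz
    exact five_ne hz
  have hidxℓ : ¬ ℓ ∣ (DT L Q).index := fun h => by
    have := Nat.le_of_dvd (Nat.pos_of_ne_zero Subgroup.index_ne_zero_of_finite) h
    omega
  obtain ⟨n, hn, key⟩ := SecFus.lift DT_comm (fusion hQ hL) (six_fix hQ hL) M φ hφ (ℓ₁ := 5) (ℓ₂ := ℓ)
    (by omega) hidx5 hidxℓ (fun h => by have := Nat.le_of_dvd (by norm_num) h; omega) hx (x₂ := 1) (one_pow _)
    (Commute.one_right x) (k₂ := 1) hg (by simp)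
  have h6 := ((key 6).1 fun t ht => six_fix hQ hL n hn t ht).1
  have h4 : x ^ 2 ^ 6 = x ^ 4 := by
    rw [show (2 : ℕ) ^ 6 = 5 * 12 + 4 from rfl, pow_add, pow_mul, hx, one_pow, one_mul]
  rw [h4] at h6
  apply hx1
  have h3 : x ^ 3 = 1 := by
    have : x ^ 3 * x = 1 * x := by rw [← pow_succ, one_mul]; exact h6
    exact mul_right_cancel this
  calc x = x ^ (3 * 2) * (x ^ 5)⁻¹ := by rw [show 3 * 2 = 5 + 1 from rfl, pow_succ', mul_inv_cancel_right]
    _ = 1 := by rw [pow_mul, h3, one_pow, hx, inv_one, mul_one]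

end H35.D4Sec
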